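import Mathlib

/-!
Subgroups of index `4` and `8` in a `2`-group; a criterion against doubly transitive actions.
-/
set_option autoImplicit false

namespace Cfsg.Agent.H40.Tits.SmallOrbit

open MulAction

variable {G : Type*} [Group G]

theorem half_facts {M : Subgroup G} (h : M.index ∣ 2) :
    (∀ a, a * a ∈ M) ∧ (∀ a b, b ∈ M → a * b * a⁻¹ ∈ M) ∧ ∀ a b, a ∉ M → b ∉ M → a * b ∈ M := by
  rcases (Nat.dvd_prime Nat.prime_two).1 h with h1 | h1
  · rw [Subgroup.index_eq_one] at h1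
    subst h1
    simp
  · haveI := Subgroup.normal_of_index_eq_two h1
    exact ⟨fun a => Subgroup.mul_self_mem_of_index_two h1 a,
      fun a b hb => Subgroup.Normal.conj_mem ‹_› b hb a,
      fun a b ha hb => (Subgroup.mul_mem_iff_of_index_two h1).2 (iff_of_false ha hb)⟩

/-- A subgroup between a subgroup and a `2`-group, of index at most two. -/
theorem exists_half [Finite G] (hG : IsPGroup 2 G) (S : Subgroup G) {j : ℕ}
    (h : S.index ∣ 2 ^ (j + 1)) :
    ∃ M : Subgroup G, S ≤ M ∧ M.index ∣ 2 ∧ (S.subgroupOf M).index ∣ 2 ^ j := by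
  haveI : Fact (Nat.Prime 2) := ⟨Nat.prime_two⟩
  by_cases hS : S.index ∣ 2 ^ j
  · refine ⟨⊤, le_top, by simp, ?_⟩
    show S.relIndex ⊤ ∣ _
    rwa [Subgroup.relIndex_top_right]
  obtain ⟨i, hi, he⟩ := (Nat.dvd_prime_pow Nat.prime_two).1 h
  have hi' : i = j + 1 := by
    by_contra hne
    exact hS (he ▸ Nat.pow_dvd_pow 2 (by omega))
  subst hi'
  obtain ⟨k, hk⟩ := IsPGroup.iff_card.1 hG
  obtain ⟨l, hl⟩ := IsPGroup.iff_card.1 (hG.to_subgroup S)
  have hk2 : 2 ^ l * 2 ^ (j + 1) = 2 ^ k := by rw [← hl, ← he, Subgroup.card_mul_index, hk]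
  rw [← pow_add] at hk2
  have hk3 : l + (j + 1) = k := Nat.pow_right_injective le_rfl hk2
  obtain ⟨M, hM, hSM⟩ := Sylow.exists_subgroup_card_pow_prime_le 2 (n := l) (m := l + j)
    (by rw [hk]; exact Nat.pow_dvd_pow 2 (by omega)) S hl (by omega)
  refine ⟨M, hSM, ?_, ?_⟩
  · have h1 := M.card_mul_index
    rw [hM, hk, ← hk3, ← Nat.add_assoc, pow_succ] at h1
    exact dvd_of_eq (Nat.eq_of_mul_eq_mul_left (by positivity) h1)
  · show S.relIndex M ∣ _
    have h1 := Subgroup.relIndex_mul_index hSM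
    have h2 := M.card_mul_index
    rw [hM, hk, ← hk3, ← Nat.add_assoc, pow_succ] at h2
    rw [Nat.eq_of_mul_eq_mul_left (by positivity) h2, he, pow_succ] at h1
    exact dvd_of_eq (Nat.eq_of_mul_eq_mul_right (by norm_num) h1)

/-- Index dividing four. -/
theorem law_four [Finite G] (hG : IsPGroup 2 G) (S : Subgroup G) (h : S.index ∣ 4) :
    ∀ a b : G, (a * a) * (a * a) ∈ S ∧ a * a * b * (a * a)⁻¹ * b⁻¹ ∈ S := by
  intro a b
  obtain ⟨M, hSM, hM, hS⟩ := exists_half hG S (j := 1) h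
  obtain ⟨m1, m2, m3⟩ := half_facts hM
  obtain ⟨s1, s2, s3⟩ := half_facts hS
  have sq : ∀ y, y ∈ M → y * y ∈ S := fun y hy => s1 ⟨y, hy⟩
  have comm : ∀ y s, y ∈ M → s ∈ M → y * s * y⁻¹ * s⁻¹ ∈ S := by
    intro y s hy hs
    by_cases h2 : (⟨s, hs⟩ : ↥M) ∈ S.subgroupOf M
    · exact mul_mem (s2 ⟨y, hy⟩ ⟨s, hs⟩ h2) (inv_mem h2)
    · refine s3 (⟨y, hy⟩ * ⟨s, hs⟩ * ⟨y, hy⟩⁻¹) (⟨s, hs⟩⁻¹) (fun hc => h2 ?_)
        (fun hc => h2 (inv_mem_iff.1 hc))
      have := s2 (⟨y, hy⟩⁻¹) _ hc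
      rwa [show (⟨y, hy⟩ : ↥M)⁻¹ * (⟨y, hy⟩ * ⟨s, hs⟩ * ⟨y, hy⟩⁻¹) * ((⟨y, hy⟩ : ↥M)⁻¹)⁻¹
        = ⟨s, hs⟩ by group] at this
  refine ⟨sq _ (m1 a), ?_⟩
  by_cases ha : a ∈ M
  · rw [show a * a * b * (a * a)⁻¹ * b⁻¹ = a * a * ((b * a * b⁻¹) * (b * a * b⁻¹))⁻¹ by group]
    exact mul_mem (sq a ha) (inv_mem (sq _ (m2 b a ha)))
  · by_cases hb : b ∈ M
    · exact comm _ _ (m1 a) hb
    · have hs : b * a⁻¹ ∈ M := m3 b a⁻¹ hb (fun hc => ha (inv_mem_iff.1 hc))
      rw [show a * a * b * (a * a)⁻¹ * b⁻¹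
        = a * a * (b * a⁻¹) * (a * a)⁻¹ * (b * a⁻¹)⁻¹ by group]
      exact comm _ _ (m1 a) hs

/-- Index dividing eight. -/
theorem law_eight [Finite G] (hG : IsPGroup 2 G) (S : Subgroup G) (h : S.index ∣ 8) :
    ∀ a b : G, a ^ 8 ∈ S ∧ a ^ 4 * b * (a ^ 4)⁻¹ * b⁻¹ ∈ S := by
  intro a b
  obtain ⟨M, hSM, hM, hS⟩ := exists_half hG S (j := 2) h
  obtain ⟨m1, m2, m3⟩ := half_facts hM
  have key := law_four (hG.to_subgroup M) (S.subgroupOf M) hS
  have e4 : a ^ 4 = (a * a) * (a * a) := by simp [pow_succ, mul_assoc]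
  refine ⟨?_, ?_⟩
  · rw [show a ^ 8 = a * a * (a * a) * (a * a * (a * a)) by simp [pow_succ, mul_assoc]]
    exact (key ⟨_, m1 a⟩ 1).1
  rw [e4]
  by_cases ha : a ∈ M
  · rw [show a * a * (a * a) * b * (a * a * (a * a))⁻¹ * b⁻¹ = a * a * (a * a) *
      ((b * a * b⁻¹) * (b * a * b⁻¹) * ((b * a * b⁻¹) * (b * a * b⁻¹)))⁻¹ by group]
    exact mul_mem (key ⟨a, ha⟩ 1).1 (inv_mem (key ⟨_, m2 b a ha⟩ 1).1)
  · by_cases hb : b ∈ M
    · exact (key ⟨_, m1 a⟩ ⟨b, hb⟩).2
    · have hs : b * a⁻¹ ∈ M := m3 b a⁻¹ hb (fun hc => ha (inv_mem_iff.1 hc))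
      rw [show a * a * (a * a) * b * (a * a * (a * a))⁻¹ * b⁻¹ = a * a * (a * a) * (b * a⁻¹) *
        (a * a * (a * a))⁻¹ * (b * a⁻¹)⁻¹ by group]
      exact (key ⟨_, m1 a⟩ ⟨_, hs⟩).2

/-- Index dividing sixteen, for two elements with suitable identities. -/
theorem law_sixteen [Finite G] (hG : IsPGroup 2 G) {p q h z : G}
    (hh : h = p * (q * (p * p * (q * q) * (q * q) * (q * q) * p) * q))
    (e8 : q ^ 8 = z)
    (c8 : (p * p * (p * q)) ^ 4 * (q * p) * ((p * p * (p * q)) ^ 4)⁻¹ * (q * p)⁻¹ = z)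
    (e4 : p * p * h * (p * p * h) * (p * p * h * (p * p * h)) = z)
    (c4a : p * h * h * (p * h * h) * (h * p * h) * (p * h * h * (p * h * h))⁻¹ * (h * p * h)⁻¹ = z)
    (c4b : h * p * (h * p) * (p * h) * (h * p * (h * p))⁻¹ * (p * h)⁻¹ = z)
    (S : Subgroup G) (hS : S.index ∣ 16) : z ∈ S := by
  obtain ⟨M, hSM, hM, hrel⟩ := exists_half hG S (j := 3) hS
  obtain ⟨m1, m2, m3⟩ := half_facts hM
  have law := law_eight (hG.to_subgroup M) (S.subgroupOf M) hrel
  by_cases h1 : q ∈ M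
  · rw [← e8]
    exact (law ⟨_, h1⟩ 1).1
  by_cases h0 : p ∈ M
  swap
  · rw [← c8]
    exact (law ⟨_, mul_mem (m1 p) (m3 _ _ h0 h1)⟩ ⟨_, m3 _ _ h1 h0⟩).2
  have hh2 : h ∈ M := by
    rw [hh]
    refine mul_mem h0 ?_
    have hX : p * p * (q * q) * (q * q) * (q * q) * p ∈ M :=
      mul_mem (mul_mem (mul_mem (mul_mem (m1 _) (m1 _)) (m1 _)) (m1 _)) h0
    rw [show q * (p * p * (q * q) * (q * q) * (q * q) * p) * q
      = q * (p * p * (q * q) * (q * q) * (q * q) * p) * q⁻¹ * (q * q) by group]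
    exact mul_mem (m2 _ _ hX) (m1 _)
  obtain ⟨N, hSN, hN, hrel'⟩ := exists_half (hG.to_subgroup M) (S.subgroupOf M) (j := 2) hrel
  obtain ⟨n1, n2, n3⟩ := half_facts hN
  have law' := law_four ((hG.to_subgroup M).to_subgroup N) ((S.subgroupOf M).subgroupOf N) hrel'
  by_cases k2 : (⟨h, hh2⟩ : ↥M) ∈ N
  · rw [← e4]
    exact (law' ⟨⟨p, h0⟩ * ⟨p, h0⟩ * ⟨h, hh2⟩, mul_mem (n1 _) k2⟩ 1).1
  by_cases k1 : (⟨p, h0⟩ : ↥M) ∈ N
  · have ha : (⟨p, h0⟩ : ↥M) * ⟨h, hh2⟩ * ⟨h, hh2⟩ ∈ N := by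
      rw [mul_assoc]; exact mul_mem k1 (n1 _)
    have hb : (⟨h, hh2⟩ : ↥M) * ⟨p, h0⟩ * ⟨h, hh2⟩ ∈ N := by
      rw [show (⟨h, hh2⟩ : ↥M) * ⟨p, h0⟩ * ⟨h, hh2⟩
        = ⟨h, hh2⟩ * ⟨p, h0⟩ * (⟨h, hh2⟩ : ↥M)⁻¹ * (⟨h, hh2⟩ * ⟨h, hh2⟩) by group]
      exact mul_mem (n2 _ _ k1) (n1 _)
    rw [← c4a]
    exact (law' ⟨_, ha⟩ ⟨_, hb⟩).2
  · rw [← c4b]
    exact (law' ⟨_, n3 _ _ k2 k1⟩ ⟨_, n3 _ _ k1 k2⟩).2

theorem candidates_aux : ∀ i j : Fin 66, 3 ≤ 66 * i.val + j.val →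
    (66 * i.val + j.val) * (66 * i.val + j.val - 1) ∣ 17971200 →
    66 * i.val + j.val < 32 ∨ 66 * i.val + j.val = 40 ∨ 66 * i.val + j.val = 65 := by decide +kernel

theorem candidates {n : ℕ} (hn : n ≤ 4240) (h3 : 3 ≤ n) (h : n * (n - 1) ∣ 17971200) :
    n < 32 ∨ n = 40 ∨ n = 65 := by
  have e : 66 * (n / 66) + n % 66 = n := Nat.div_add_mod n 66
  have := candidates_aux ⟨n / 66, by omega⟩ ⟨n % 66, Nat.mod_lt _ (by norm_num)⟩
  simp only [e] at this
  exact this h3 h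

/-- Orbit lengths in a group of order `2^11`. -/
theorem orbit_dvd {U X : Type*} [Group U] [Finite U] [MulAction U X] (hU : Nat.card U = 2 ^ 11)
    (x : X) : ∃ i, i ≤ 11 ∧ (stabilizer U x).index = 2 ^ i := by
  have := (stabilizer U x).index_dvd_card
  rw [hU] at this
  exact (Nat.dvd_prime_pow Nat.prime_two).1 this

variable {Ω : Type*} [Fintype Ω] [MulAction G Ω]

theorem dvd_moved [Finite G] {U : Subgroup G} (hU : Nat.card U = 2 ^ 11) {z : G}
    (hzc : ∀ u ∈ U, u * z = z * u)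
    (law : ∀ ω : Ω, z • ω ≠ ω → 32 ∣ (stabilizer ↥U ω).index) :
    32 ∣ Nat.card {ω : Ω // z • ω ≠ ω} := by
  classical
  haveI : Fintype G := Fintype.ofFinite G
  letI : MulAction ↥U {ω : Ω // z • ω ≠ ω} :=
    { smul := fun u ω => ⟨(u : G) • ω.1, fun h => ω.2 (by
        rw [smul_smul, ← hzc u u.2, ← smul_smul] at h
        exact smul_left_cancel _ h)⟩
      one_smul := fun ω => Subtype.ext (one_smul G ω.1)
      mul_smul := fun u v ω => Subtype.ext (mul_smul (u : G) (v : G) ω.1) }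
  rw [Nat.card_eq_fintype_card, MulAction.card_eq_sum_card_group_div_card_stabilizer ↥U]
  refine Finset.dvd_sum fun o _ => ?_
  have e : stabilizer ↥U o.out = stabilizer ↥U (o.out : Ω) := by
    ext u
    exact Subtype.ext_iff
  rw [← Nat.card_eq_fintype_card, ← Nat.card_eq_fintype_card, e,
    ← (stabilizer ↥U (o.out : Ω)).card_mul_index, Nat.mul_div_cancel_left _ Nat.card_pos]
  exact law _ o.out.2

/-- The criterion. -/
theorem no_two_transitive [Finite G] [FaithfulSMul G Ω] (hG : Nat.card G = 17971200)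
    {U : Subgroup G} (hU : Nat.card U = 2 ^ 11) {z z' n0 n1 : G} (hz : z ∈ U) (hz' : z' ∈ U)
    (hz1 : z ≠ 1) (hzc : ∀ u ∈ U, u * z = z * u)
    (law16 : ∀ S : Subgroup ↥U, S.index ∣ 16 → (⟨z, hz⟩ : ↥U) ∈ S)
    (law8 : ∀ S : Subgroup ↥U, S.index ∣ 8 → (⟨z', hz'⟩ : ↥U) ∈ S)
    (h0 : n0 * z * n0⁻¹ = z') (h1 : n1 * z * n1⁻¹ = z)
    (hgen : ∀ H : Subgroup G, U ≤ H → n0 ∈ H → n1 ∈ H → H = ⊤)
    (h3 : 3 ≤ Fintype.card Ω) : ¬ IsMultiplyPretransitive G Ω 2 := by
  classical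
  intro ht
  haveI : Fact (Nat.Prime 2) := ⟨Nat.prime_two⟩
  have ht2 : ∀ {a b c d : Ω}, a ≠ b → c ≠ d → ∃ g : G, g • a = c ∧ g • b = d :=
    is_two_pretransitive_iff.1 ht
  haveI : IsPretransitive G Ω := ⟨fun a b => by
    obtain ⟨a', ha'⟩ := Fintype.exists_ne_of_one_lt_card (show 1 < Fintype.card Ω by omega) a
    obtain ⟨b', hb'⟩ := Fintype.exists_ne_of_one_lt_card (show 1 < Fintype.card Ω by omega) b
    obtain ⟨g, hg, -⟩ := ht2 ha'.symm hb'.symm
    exact ⟨g, hg⟩⟩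
  set n := Fintype.card Ω with hn
  have hpair : ∀ a b : Ω, a ≠ b → n * (n - 1) * Nat.card ↥(stabilizer G (a, b)) = 17971200 := by
    intro a b hab
    have ho : orbit G (a, b) = {p : Ω × Ω | p.1 ≠ p.2} := by
      ext ⟨c, d⟩
      constructor
      · rintro ⟨g, hg⟩
        simp only [Prod.smul_mk, Prod.mk.injEq] at hg
        obtain ⟨rfl, rfl⟩ := hg
        exact fun h => hab (smul_left_cancel g h)
      · intro h
        obtain ⟨g, hc, hd⟩ := ht2 hab h
        exact ⟨g, Prod.ext hc hd⟩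
    have hi := index_stabilizer G (a, b)
    have he : ({p : Ω × Ω | p.1 ≠ p.2}).ncard = n * (n - 1) := by
      have : ({p : Ω × Ω | p.1 ≠ p.2}) = ((Finset.univ : Finset Ω).offDiag : Set (Ω × Ω)) := by
        ext p; simp
      rw [this, Set.ncard_coe_finset, Finset.offDiag_card, Finset.card_univ, Nat.mul_sub_one]
    rw [ho, he] at hi
    rw [← hi, mul_comm, Subgroup.card_mul_index, hG]
  obtain ⟨a0, b0, hab0⟩ := Fintype.exists_pair_of_one_lt_card (show 1 < n by omega)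
  have hdvd : n * (n - 1) ∣ 17971200 := ⟨_, (hpair a0 b0 hab0).symm⟩
  have hle : n ≤ 4240 := by
    by_contra hcon
    have h4 : 4241 * 4240 ≤ n * (n - 1) := Nat.mul_le_mul (by omega) (by omega)
    have := Nat.le_of_dvd (by norm_num) hdvd
    omega
  have hcand := candidates hle h3 hdvd
  -- moved points lie in orbits of length at least 32
  have hlaw : ∀ ω : Ω, z • ω ≠ ω → 32 ∣ (stabilizer ↥U ω).index := by
    intro ω hω
    obtain ⟨i, hi, e⟩ := orbit_dvd hU ω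
    rw [e]
    by_contra hcon
    have : i ≤ 4 := by
      by_contra h5
      exact hcon (show 2 ^ 5 ∣ 2 ^ i from Nat.pow_dvd_pow 2 (by omega))
    exact hω (law16 (stabilizer ↥U ω) (e ▸ (show 2 ^ i ∣ 2 ^ 4 from Nat.pow_dvd_pow 2 this)))
  have hm := dvd_moved hU hzc hlaw
  rw [Nat.card_eq_fintype_card, Fintype.card_subtype] at hm
  set Y := (Finset.univ : Finset Ω).filter fun ω => z • ω = ω with hY
  set M := (Finset.univ : Finset Ω).filter fun ω => ¬ z • ω = ω with hMdef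
  have hsum : Y.card + M.card = n := Finset.card_filter_add_card_filter_not _
  have hMne : M.Nonempty := by
    by_contra hcon
    rw [Finset.not_nonempty_iff_eq_empty, Finset.filter_eq_empty_iff] at hcon
    refine hz1 (eq_of_smul_eq_smul (α := Ω) fun ω => ?_)
    rw [one_smul]
    exact not_not.1 (hcon (Finset.mem_univ ω))
  have hMpos := hMne.card_pos
  have hsmall : ∀ ω ∈ Y, Y.card ≤ 8 → (stabilizer ↥U ω).index ∣ 8 := by
    intro ω hω h8
    obtain ⟨i, -, e⟩ := orbit_dvd hU ω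
    have hsub : orbit ↥U ω ⊆ (Y : Set Ω) := by
      rintro _ ⟨u, rfl⟩
      simp only [Y, Finset.coe_filter, Finset.mem_univ, true_and, Set.mem_setOf_eq,
        Finset.mem_filter] at hω ⊢
      show z • ((u : G) • ω) = (u : G) • ω
      rw [smul_smul, ← hzc u u.2, ← smul_smul, hω]
    have hle' := Set.ncard_le_ncard hsub (Finset.finite_toSet _)
    rw [Set.ncard_coe_finset, ← index_stabilizer, e] at hle'
    have : i ≤ 3 := by
      by_contra h4
      have := Nat.pow_le_pow_right (show 0 < 2 by norm_num) (show 4 ≤ i by omega)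
      omega
    rw [e]
    exact Nat.pow_dvd_pow 2 this
  have hY8 : Y.card ≤ 8 ∧ 0 < Y.card := by
    rcases hcand with h | h | h
    · exfalso
      have h' : n < 32 := h
      have := Nat.le_of_dvd hMpos hm
      omega
    · have h' : n = 40 := h
      obtain ⟨c, hc⟩ := hm
      omega
    · have h' : n = 65 := h
      obtain ⟨c, hc⟩ := hm
      rcases Nat.lt_or_ge c 2 with hc2 | hc2
      swap
      · omega
      exfalso
      have hU2 : IsPGroup 2 ↥U := IsPGroup.of_card hU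
      obtain ⟨a, ha⟩ := hU2.nonempty_fixed_point_of_prime_not_dvd_card Ω (by
        rw [Nat.card_eq_fintype_card, ← hn, h']; norm_num)
      obtain ⟨b, hb⟩ := hMne
      simp only [M, Finset.mem_filter, Finset.mem_univ, true_and] at hb
      have hza : z • a = a := ha ⟨z, hz⟩
      have hab : a ≠ b := fun e => hb (e ▸ hza)
      have hst := hpair a b hab
      rw [h'] at hst
      have hUb : (stabilizer ↥U b).map U.subtype ≤ stabilizer G (a, b) := by
        rintro _ ⟨u, hu, rfl⟩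
        exact Prod.ext (ha u) hu
      have hd1 := Subgroup.card_dvd_of_le hUb
      rw [Subgroup.card_map_of_injective U.subtype_injective] at hd1
      have hd2 := (stabilizer ↥U b).card_subgroup_dvd_card
      rw [hU] at hd2
      obtain ⟨i, -, hi⟩ := (Nat.dvd_prime_pow Nat.prime_two).1 hd2
      have hstab : Nat.card ↥(stabilizer G (a, b)) = 4320 := by omega
      rw [hstab, hi] at hd1
      have hi5 : i ≤ 5 := by
        by_contra h6
        have := dvd_trans (Nat.pow_dvd_pow 2 (show 6 ≤ i by omega)) hd1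
        norm_num at this
      have hindex := (stabilizer ↥U b).card_mul_index
      rw [hU, hi] at hindex
      have hsub : orbit ↥U b ⊆ (M : Set Ω) := by
        rintro _ ⟨u, rfl⟩
        simp only [M, Finset.coe_filter, Finset.mem_univ, true_and, Set.mem_setOf_eq]
        show ¬ z • ((u : G) • b) = (u : G) • b
        rw [smul_smul, ← hzc u u.2, ← smul_smul]
        exact fun e => hb (smul_left_cancel _ e)
      have hle' := Set.ncard_le_ncard hsub (Finset.finite_toSet _)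
      rw [Set.ncard_coe_finset, ← index_stabilizer] at hle'
      have hp : 2 ^ i ≤ 32 := Nat.pow_le_pow_right (by norm_num) hi5
      have : 2 ^ i * (stabilizer ↥U b).index ≤ 32 * M.card := Nat.mul_le_mul hp hle'
      omega
  -- the fixed points of `z'` are those of `z`
  have hz'Y : ∀ ω ∈ Y, z' • ω = ω := fun ω hω =>
    (law8 (stabilizer ↥U ω) (hsmall ω hω hY8.1) : _)
  have hY' : Y.image (fun ω => n0 • ω) = (Finset.univ : Finset Ω).filter fun ω => z' • ω = ω := by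
    ext ω
    simp only [Finset.mem_image, Y, Finset.mem_filter, Finset.mem_univ, true_and]
    constructor
    · rintro ⟨x, hx, rfl⟩
      rw [← h0, mul_smul, mul_smul, inv_smul_smul, hx]
    · intro h
      refine ⟨n0⁻¹ • ω, ?_, smul_inv_smul _ _⟩
      rw [show z = n0⁻¹ * z' * n0 by rw [← h0]; group, mul_smul, mul_smul, smul_inv_smul, h]
  have hYeq : Y.image (fun ω => n0 • ω) = Y := by
    refine (Finset.eq_of_subset_of_card_le (fun ω hω => ?_) (le_of_eq ?_)).symm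
    · rw [hY']
      exact Finset.mem_filter.2 ⟨Finset.mem_univ _, hz'Y ω hω⟩
    · exact Finset.card_image_of_injective _ (MulAction.injective n0)
  -- so the fixed points form an invariant set
  let H : Subgroup G :=
    { carrier := {g | ∀ ω, ω ∈ Y ↔ g • ω ∈ Y}
      one_mem' := fun ω => by rw [one_smul]
      mul_mem' := fun {g h} hg hh ω => by rw [mul_smul, ← hg, ← hh]
      inv_mem' := fun {g} hg ω => by
        have := (hg (g⁻¹ • ω)).symm
        rwa [smul_inv_smul] at this }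
  have hH : H = ⊤ := by
    refine hgen H (fun u hu ω => ?_) (fun ω => ?_) (fun ω => ?_)
    · simp only [Y, Finset.mem_filter, Finset.mem_univ, true_and]
      rw [smul_smul, ← hzc u hu, ← smul_smul, smul_left_cancel_iff]
    · constructor
      · intro h
        have := Finset.mem_image_of_mem (fun ω => n0 • ω) h
        rwa [hYeq] at this
      · intro h
        rw [← hYeq, Finset.mem_image] at h
        obtain ⟨x, hx, e⟩ := h
        rwa [← smul_left_cancel n0 e]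
    · simp only [Y, Finset.mem_filter, Finset.mem_univ, true_and]
      have hc : z * n1 = n1 * z := (mul_inv_eq_iff_eq_mul.1 h1).symm
      rw [smul_smul, hc, ← smul_smul, smul_left_cancel_iff]
  obtain ⟨ω, hω⟩ := Finset.card_pos.1 hY8.2
  obtain ⟨x, hx⟩ := hMne
  obtain ⟨g, rfl⟩ := exists_smul_eq G ω x
  have := (show g ∈ H from hH ▸ Subgroup.mem_top g) ω
  simp only [M, Finset.mem_filter, Finset.mem_univ, true_and] at hx
  exact hx (Finset.mem_filter.1 (this.1 hω)).2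

end Cfsg.Agent.H40.Tits.SmallOrbit
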