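import Cfsg.Agent.H40.Tits.Main
import Cfsg.Agent.H40.Tits.SmallOrbit

/-!
The Tits group has no doubly transitive action.
-/
set_option autoImplicit false
set_option maxRecDepth 100000
set_option maxHeartbeats 1000000
set_option synthInstance.maxHeartbeats 400000

namespace Cfsg.Agent.H40.Tits

open Cfsg.Lie Cfsg.Agent.H37 Cfsg.Agent.H37.RootSys Cfsg.Agent.H37.Twist
  Cfsg.Agent.H37.NormalForm

/-- The derived subgroup. -/
noncomputable abbrev LG : Subgroup GT := commutator GT

/-- The unipotent elements of the derived subgroup. -/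
noncomputable def UL : Subgroup ↥LG := UF.subgroupOf LG

/-- The value in the Chevalley group. -/
noncomputable def val2 : ↥UL →* GF :=
  (fixedPts σ2).subtype.comp (LG.subtype.comp UL.subtype)

theorem val2_inj : Function.Injective val2 :=
  fun _ _ h => Subtype.ext (Subtype.ext (Subtype.ext h))

theorem mem_LG_of_dpar {w : List ℕ} (h : goodW w = true) (h0 : dpar w = 0) :
    ((elW w h : ↥UF) : GT) ∈ LG := by
  rw [LG, commutator_eq_ker, MonoidHom.mem_ker, trV_eq, chi_elW, h0]
  rfl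

/-- An even word as an element of the unipotent subgroup. -/
noncomputable def elL (w : List ℕ) (h : goodW w = true) (h0 : dpar w = 0) : ↥UL :=
  ⟨⟨(elW w h : GT), mem_LG_of_dpar h h0⟩, Subgroup.mem_subgroupOf.2 (elW w h).2⟩

theorem val2_elL (w : List ℕ) (h : goodW w = true) (h0 : dpar w = 0) :
    val2 (elL w h h0) = gW w := rfl

/-- Two generators. -/
def gamW : Fin 2 → List ℕ := ![[25, 27, 28, 31, 35, 40], [24, 25, 27, 29, 30, 32, 33, 34, 36]]

/-- The central involution. -/
def zW : List ℕ := [44, 47]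

/-- A conjugate of it. -/
def zW' : List ℕ := [40, 46]

theorem words_good : (∀ i, goodW (gamW i) = true ∧ dpar (gamW i) = 0) ∧
    (goodW zW = true ∧ dpar zW = 0) ∧ (goodW zW' = true ∧ dpar zW' = 0) := by decide +kernel

/-- The generators in the group. -/
noncomputable def gam (i : Fin 2) : ↥UL := elL (gamW i) (words_good.1 i).1 (words_good.1 i).2

/-- The central involution in the group. -/
noncomputable def zL : ↥UL := elL zW words_good.2.1.1 words_good.2.1.2

/-- Its conjugate in the group. -/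
noncomputable def zL' : ↥UL := elL zW' words_good.2.2.1 words_good.2.2.2

/-- A product of generators. -/
noncomputable def ev (l : List (Fin 2)) : ↥UL := (l.map gam).prod

theorem ev_append (l m : List (Fin 2)) : ev (l ++ m) = ev l * ev m := by
  rw [ev, ev, ev, List.map_append, List.prod_append]

theorem val2_ev : ∀ l : List (Fin 2), val2 (ev l) = gW (l.flatMap gamW)
  | [] => map_one _
  | i :: l => by
    rw [List.flatMap_cons, gW_append, ← val2_ev l,
      show ev (i :: l) = gam i * ev l by rw [ev, ev, List.map_cons, List.prod_cons], map_mul]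
    rfl

theorem gamW_lt : ∀ i, ∀ r ∈ gamW i, r < 48 := by decide

theorem val2_ev_inv (l : List (Fin 2)) : val2 (ev l)⁻¹ = gW (l.flatMap gamW).reverse := by
  rw [map_inv, val2_ev, gW_inv fun r hr => ?_]
  obtain ⟨i, -, hr⟩ := List.mem_flatMap.1 hr
  exact gamW_lt i r hr

/-- The word of a commutator. -/
def commW (a b : List (Fin 2)) : List ℕ :=
  a.flatMap gamW ++ b.flatMap gamW ++ (a.flatMap gamW).reverse ++ (b.flatMap gamW).reverse

theorem eq_of_comm {a b : List (Fin 2)} {w : List ℕ} {h : goodW w = true} {h0 : dpar w = 0}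
    (e : nfEq (commW a b) w = true) :
    ev a * ev b * (ev a)⁻¹ * (ev b)⁻¹ = elL w h h0 := by
  refine val2_inj ?_
  rw [map_mul, map_mul, map_mul, val2_ev_inv, val2_ev_inv, val2_ev, val2_ev, ← gW_append,
    ← gW_append, ← gW_append, val2_elL]
  exact nfEq_spec e

theorem eq_of_word {a : List (Fin 2)} {w : List ℕ} {h : goodW w = true} {h0 : dpar w = 0}
    (e : nfEq (a.flatMap gamW) w = true) : ev a = elL w h h0 := by
  refine val2_inj ?_
  rw [val2_ev, val2_elL]
  exact nfEq_spec e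

/-- The second generator of the exceptional maximal subgroup. -/
def h2W : List (Fin 2) := [0, 1, 0, 0, 1, 1, 1, 1, 1, 1, 0, 1]

/-- A power of a word. -/
def pw (k : ℕ) (l : List (Fin 2)) : List (Fin 2) := (List.replicate k l).flatten

theorem identities :
    nfEq ((pw 8 [1]).flatMap gamW) zW = true ∧
    nfEq (commW (pw 4 [0, 0, 0, 1]) [1, 0]) zW = true ∧
    nfEq ((pw 4 ([0] ++ [0] ++ h2W)).flatMap gamW) zW = true ∧
    nfEq (commW (pw 2 ([0] ++ h2W ++ h2W)) (h2W ++ [0] ++ h2W)) zW = true ∧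
    nfEq (commW (pw 2 (h2W ++ [0])) ([0] ++ h2W)) zW = true ∧
    nfEq (commW (pw 4 [0, 0, 0, 1]) [0]) zW' = true := by decide +kernel

theorem ev_pw (k : ℕ) (l : List (Fin 2)) : ev (pw k l) = ev l ^ k := by
  induction k with
  | zero => rfl
  | succ k ih =>
    rw [pw, List.replicate_succ, List.flatten_cons, ev_append, pow_succ', ← ih]
    rfl

theorem z_pow8 : ev [1] ^ 8 = zL := by rw [← ev_pw]; exact eq_of_word identities.1

theorem z_comm8 : ev [0, 0, 0, 1] ^ 4 * ev [1, 0] * (ev [0, 0, 0, 1] ^ 4)⁻¹ * (ev [1, 0])⁻¹ = zL := by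
  rw [← ev_pw]; exact eq_of_comm identities.2.1

theorem z_pow4 : ev [0] * ev [0] * ev h2W * (ev [0] * ev [0] * ev h2W) *
    (ev [0] * ev [0] * ev h2W * (ev [0] * ev [0] * ev h2W)) = zL := by
  have e := ev_pw 4 ([0] ++ [0] ++ h2W)
  rw [eq_of_word (h := words_good.2.1.1) (h0 := words_good.2.1.2) identities.2.2.1, ev_append,
    ev_append] at e
  rw [show zL = elL zW words_good.2.1.1 words_good.2.1.2 from rfl, e]
  simp [pow_succ, mul_assoc]

theorem z_comm4a : ev [0] * ev h2W * ev h2W * (ev [0] * ev h2W * ev h2W) *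
    (ev h2W * ev [0] * ev h2W) * (ev [0] * ev h2W * ev h2W * (ev [0] * ev h2W * ev h2W))⁻¹ *
      (ev h2W * ev [0] * ev h2W)⁻¹ = zL := by
  have e := eq_of_comm (h := words_good.2.1.1) (h0 := words_good.2.1.2) identities.2.2.2.1
  rw [ev_pw, pow_two, ev_append, ev_append, ev_append, ev_append] at e
  exact e

theorem z_comm4b : ev h2W * ev [0] * (ev h2W * ev [0]) * (ev [0] * ev h2W) *
    (ev h2W * ev [0] * (ev h2W * ev [0]))⁻¹ * (ev [0] * ev h2W)⁻¹ = zL := by
  have e := eq_of_comm (h := words_good.2.1.1) (h0 := words_good.2.1.2) identities.2.2.2.2.1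
  rw [ev_pw, pow_two, ev_append, ev_append] at e
  exact e

theorem z'_comm : ev [0, 0, 0, 1] ^ 4 * ev [0] * (ev [0, 0, 0, 1] ^ 4)⁻¹ * (ev [0])⁻¹ = zL' := by
  rw [← ev_pw]; exact eq_of_comm identities.2.2.2.2.2

theorem card_UL : Nat.card ↥UL = 2 ^ 11 := by
  have hker : LG.subgroupOf UF = chi.ker := by
    ext u
    rw [Subgroup.mem_subgroupOf, LG, commutator_eq_ker, MonoidHom.mem_ker, MonoidHom.mem_ker,
      trV_eq]
  have hsurj : Function.Surjective chi := by
    intro x
    rcases (by decide : ∀ x : Multiplicative (ZMod 2), x = 1 ∨ x = Multiplicative.ofAdd 1) x with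
      rfl | rfl
    · exact ⟨1, map_one _⟩
    · exact ⟨bel, by rw [bel, chi_elW, cert_b.2]⟩
  have hidx : chi.ker.index = 2 := by
    rw [Subgroup.index_ker, MonoidHom.range_eq_top.2 hsurj, Subgroup.card_top]
    simp
  have e : Nat.card ↥UL = Nat.card ↥chi.ker := by
    rw [← hker, UL, ← Subgroup.inf_subgroupOf_right UF LG, ← Subgroup.inf_subgroupOf_right LG UF,
      Nat.card_congr (Subgroup.subgroupOfEquivOfLe inf_le_right).toEquiv,
      Nat.card_congr (Subgroup.subgroupOfEquivOfLe inf_le_right).toEquiv, inf_comm]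
  rw [e]
  have h := chi.ker.card_mul_index
  rw [hidx, card_UF] at h
  omega

theorem h2W_eq : ev h2W = ev [0] * (ev [1] * (ev [0] * ev [0] * (ev [1] * ev [1]) *
    (ev [1] * ev [1]) * (ev [1] * ev [1]) * ev [0]) * ev [1]) := by
  rw [show h2W = [0] ++ ([1] ++ ([0] ++ [0] ++ ([1] ++ [1]) ++ ([1] ++ [1]) ++ ([1] ++ [1]) ++
    [0]) ++ [1]) from rfl]
  simp only [ev_append]

theorem ev_eight_words : ev [0, 0, 0, 1] = ev [0] * ev [0] * (ev [0] * ev [1]) ∧
    ev [1, 0] = ev [1] * ev [0] := by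
  constructor
  · rw [← ev_append, ← ev_append, ← ev_append]; rfl
  · rw [← ev_append]; rfl

theorem law16 (S : Subgroup ↥UL) (hS : S.index ∣ 16) : zL ∈ S := by
  haveI : Fact (Nat.Prime 2) := ⟨Nat.prime_two⟩
  have c8 := z_comm8
  rw [ev_eight_words.1, ev_eight_words.2] at c8
  exact SmallOrbit.law_sixteen (IsPGroup.of_card card_UL) h2W_eq z_pow8 c8 z_pow4 z_comm4a
    z_comm4b S hS

theorem law8' (S : Subgroup ↥UL) (hS : S.index ∣ 8) : zL' ∈ S := by
  haveI : Fact (Nat.Prime 2) := ⟨Nat.prime_two⟩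
  rw [← z'_comm]
  exact (SmallOrbit.law_eight (IsPGroup.of_card card_UL) S hS _ _).2

theorem z_central_checks :
    ((gensR rev8).all fun w => nfEq (w ++ zW) (zW ++ w)) = true ∧
      zW.map (sact 0) = zW' ∧ zW.map (sact 1) = zW := by decide +kernel

theorem z_comm_UF (u : GT) (hu : u ∈ UF) :
    ((u : GT) : GF) * gW zW = gW zW * ((u : GT) : GF) := by
  have h := U_gen ⟨mem_UF.1 hu, u.2⟩
  have hc : Subgroup.closure {g | ∃ w ∈ gensR rev8, g = gW w}
      ≤ Subgroup.centralizer {gW zW} := by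
    refine (Subgroup.closure_le _).2 ?_
    rintro g ⟨w, hw, rfl⟩
    have h1 := z_central_checks.1
    rw [List.all_eq_true] at h1
    have e := nfEq_spec (h1 w hw)
    rw [gW_append, gW_append] at e
    rw [SetLike.mem_coe, Subgroup.mem_centralizer_iff]
    intro x hx
    rw [Set.mem_singleton_iff] at hx
    rw [hx]
    exact e.symm
  exact (Subgroup.mem_centralizer_iff.1 (hc h) _ (Set.mem_singleton _)).symm

/-- A representative in the derived subgroup. -/
noncomputable def nL (j : Fin 2) : ↥LG :=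
  ⟨repG (F4.gens j), (covers seed_mem_commutator).1 _⟩

theorem odd_exists : ∀ j : Fin 2, ∃ w ∈ gensR (rev7 j), dpar w = 1 := by decide +kernel

theorem mem_LG_iff (u : ↥UF) : (u : GT) ∈ LG ↔ chi u = 1 := by
  rw [LG, commutator_eq_ker, MonoidHom.mem_ker, trV_eq]

theorem gen_L (H : Subgroup ↥LG) (hU : UL ≤ H) (h0 : nL 0 ∈ H) (h1 : nL 1 ∈ H) : H = ⊤ := by
  set H' := H.map LG.subtype with hH'
  have hUH : ∀ u : GT, u ∈ UF → u ∈ LG → u ∈ H' := fun u hu hL =>
    ⟨⟨u, hL⟩, hU (Subgroup.mem_subgroupOf.2 hu), rfl⟩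
  have hn : ∀ j, repG (F4.gens j) ∈ H' := by
    intro j
    rcases (by decide : ∀ j : Fin 2, j = 0 ∨ j = 1) j with rfl | rfl
    · exact ⟨nL 0, h0, rfl⟩
    · exact ⟨nL 1, h1, rfl⟩
  set b : GT := (bel : GT) with hb
  set K : Subgroup GT :=
    { carrier := {g | ∀ x, x ∈ H' ↔ g * x * g⁻¹ ∈ H'}
      one_mem' := fun x => by simp
      mul_mem' := fun {g h} hg hh x => by
        rw [hh x, hg, show g * (h * x * h⁻¹) * g⁻¹ = g * h * x * (g * h)⁻¹ by group]
      inv_mem' := fun {g} hg x => by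
        rw [hg (g⁻¹ * x * g⁻¹⁻¹), show g * (g⁻¹ * x * g⁻¹⁻¹) * g⁻¹ = x by group] } with hK
  -- the odd element normalises
  have hbU : ∀ x : GT, x ∈ UF → x ∈ LG → b * x * b⁻¹ ∈ H' := fun x hx hL => by
    refine hUH _ (mul_mem (mul_mem bel.2 hx) (inv_mem bel.2)) ?_
    haveI : (LG).Normal := inferInstance
    exact this.conj_mem x hL b
  have hbn : ∀ j, b * repG (F4.gens j) * b⁻¹ ∈ H' := by
    intro j
    obtain ⟨w, hw, hd⟩ := odd_exists j
    have hc := check_fusion j
    simp only [List.all_eq_true, Bool.and_eq_true, decide_eq_true_eq] at hc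
    obtain ⟨⟨g1, g2⟩, g3⟩ := hc w hw
    set c : ↥UF := elW w g1
    set c' : ↥UF := elW (w.map (sact j)) g2
    have hcc : repG (F4.gens j) * (c : GT) * (repG (F4.gens j))⁻¹ = (c' : GT) :=
      Subtype.ext (rep_gen_gW j (good_spec g1).1)
    have hchi : ∀ (p q : ↥UF), chi p = Multiplicative.ofAdd 1 →
        chi q = Multiplicative.ofAdd 1 → ((p : GT) * (q : GT)⁻¹) ∈ LG := by
      intro p q hp hq
      have := (mem_LG_iff (p * q⁻¹)).2 (by rw [map_mul, map_inv, hp, hq, mul_inv_cancel])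
      exact this
    have e1 : chi c = Multiplicative.ofAdd 1 := by rw [chi_elW, hd]
    have e2 : chi c' = Multiplicative.ofAdd 1 := by rw [chi_elW, ← g3, hd]
    have e3 : chi bel = Multiplicative.ofAdd 1 := by rw [bel, chi_elW, cert_b.2]
    rw [show b * repG (F4.gens j) * b⁻¹ = (b * (c : GT)⁻¹) *
        ((c : GT) * (repG (F4.gens j) * (c : GT) * (repG (F4.gens j))⁻¹)⁻¹ * repG (F4.gens j)) *
        ((c : GT) * b⁻¹) by group, hcc]
    exact mul_mem (mul_mem (hUH _ (mul_mem bel.2 (inv_mem c.2)) (hchi _ _ e3 e1))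
      (mul_mem (hUH _ (mul_mem c.2 (inv_mem c'.2)) (hchi _ _ e1 e2)) (hn j)))
      (hUH _ (mul_mem c.2 (inv_mem bel.2)) (hchi _ _ e1 e3))
  have hsplit : ∀ u : GT, u ∈ UF → u ∈ H' ∨ b⁻¹ * u ∈ H' := fun u hu => by
    rcases bel_split u with h | h
    · exact Or.inl (hUH u hu h)
    · exact Or.inr (hUH _ (mul_mem (inv_mem bel.2) hu) h)
  have hrep : ∀ a, repG a ∈ H' := fun a => by
    have htop : (⊤ : Subgroup (DihedralGroup 8)) ≤ H'.comap repG := by
      rw [← F4.closure_gens]
      exact (Subgroup.closure_le _).2 (by rintro _ ⟨j, rfl⟩; exact hn j)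
    exact htop (Subgroup.mem_top a)
  have hbrep : ∀ a, b * repG a * b⁻¹ ∈ H' := fun a => by
    have htop : (⊤ : Subgroup (DihedralGroup 8))
        ≤ (H'.comap (MulAut.conj b).toMonoidHom).comap repG := by
      rw [← F4.closure_gens]
      exact (Subgroup.closure_le _).2 (by rintro _ ⟨j, rfl⟩; exact hbn j)
    exact htop (Subgroup.mem_top a)
  have hle : LG ≤ H' := by
    intro g hg
    obtain ⟨u, hu, huf, a, v, hv, hvf, eg⟩ := exists_bruhat g
    set u' : GT := ⟨u, huf⟩
    set v' : GT := ⟨v, hvf⟩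
    have eg' : g = u' * repG a * v' := Subtype.ext eg
    have hu' : u' ∈ UF := mem_UF.2 hu
    have hv' : v' ∈ UF := mem_UF.2 hv
    have hn' : repG a ∈ LG := (covers seed_mem_commutator).1 a
    rcases hsplit u' hu' with h | h
    · have hv'' : v' ∈ LG := by
        have huL : u' ∈ LG := Subgroup.map_subtype_le H h
        rw [show v' = (u' * repG a)⁻¹ * g by rw [eg']; group]
        exact mul_mem (inv_mem (mul_mem huL hn')) hg
      rw [eg']
      exact mul_mem (mul_mem h (hrep a)) (hUH v' hv' hv'')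
    · have huL : b⁻¹ * u' ∈ LG := Subgroup.map_subtype_le H h
      have hbv : b * v' ∈ LG := by
        haveI : (LG).Normal := inferInstance
        rw [show b * v' = (b * (repG a)⁻¹ * b⁻¹) * (b * (b⁻¹ * u')⁻¹ * b⁻¹) * g by
          rw [eg']; group]
        exact mul_mem (mul_mem (this.conj_mem _ (inv_mem hn') b)
          (this.conj_mem _ (inv_mem huL) b)) hg
      rw [show g = (b * (b⁻¹ * u') * b⁻¹) * (b * repG a * b⁻¹) * (b * v') by rw [eg']; group]
      exact mul_mem (mul_mem (hbU _ (mul_mem (inv_mem bel.2) hu') huL) (hbrep a))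
        (hUH _ (mul_mem bel.2 hv') hbv)
  refine eq_top_iff.2 fun x _ => ?_
  obtain ⟨y, hy, e⟩ := hle x.2
  rwa [← Subtype.ext (a1 := y) (a2 := x) e]

theorem zW_ne : gW zW ≠ 1 := by
  intro h
  have hf : ∀ r ∈ lowL ++ highL, r < 48 := by decide
  have e : gW zW = xprod Q2 (lowL ++ highL) fun r => if decide (r ∈ zW) then 1 else 0 := by
    rw [← gW_filter _ _ hf]
    congr 1
  have e0 : (1 : GF) = xprod Q2 (lowL ++ highL) fun _ => (0 : ZMod 2) := by
    rw [xprod, List.map_congr_left (g := fun _ => (1 : GF)) fun r hr =>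
      F4.xe_zero (K := ZMod 2) (show r < chevF4.nroots from hf r hr)]
    simp
  rw [e, e0] at h
  exact absurd (xprod_inj Q2 all_sorted all_closed h 44 (by decide)) (by decide)

theorem zL_ne : (zL : ↥LG) ≠ 1 := fun h => by
  have h2 : val2 zL = 1 := by rw [show zL = 1 from Subtype.ext h, map_one]
  rw [zL, val2_elL] at h2
  exact zW_ne h2

theorem zL_comm : ∀ u ∈ UL, u * (zL : ↥LG) = (zL : ↥LG) * u := fun u hu =>
  Subtype.ext (Subtype.ext (z_comm_UF u (Subgroup.mem_subgroupOf.1 hu)))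

theorem conj_z : nL 0 * (zL : ↥LG) * (nL 0)⁻¹ = (zL' : ↥LG) ∧
    nL 1 * (zL : ↥LG) * (nL 1)⁻¹ = (zL : ↥LG) := by
  constructor
  · refine Subtype.ext (Subtype.ext ?_)
    show rep (F4.gens 0) * gW zW * (rep (F4.gens 0))⁻¹ = gW zW'
    rw [rep_gen_gW _ (good_spec words_good.2.1.1).1, z_central_checks.2.1]
  · refine Subtype.ext (Subtype.ext ?_)
    show rep (F4.gens 1) * gW zW * (rep (F4.gens 1))⁻¹ = gW zW
    rw [rep_gen_gW _ (good_spec words_good.2.1.1).1, z_central_checks.2.2]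

theorem no_two_transitive {Ω : Type*} [Fintype Ω] [MulAction ↥LG Ω] [FaithfulSMul ↥LG Ω]
    (hΩ : 3 ≤ Fintype.card Ω) : ¬ MulAction.IsMultiplyPretransitive ↥LG Ω 2 :=
  SmallOrbit.no_two_transitive (U := UL) card_commutator card_UL zL.2 zL'.2 zL_ne zL_comm
    law16 law8' conj_z.1 conj_z.2 gen_L hΩ

/-- Actions through an isomorphism. -/
theorem transfer_action {A B Ω : Type*} [Group A] [Group B] [MulAction B Ω] [FaithfulSMul B Ω]
    (e : A ≃* B)
    (h : ∀ (i : MulAction A Ω), @FaithfulSMul A Ω i.toSMul →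
      ¬ @MulAction.IsMultiplyPretransitive A Ω _ i 2) :
    ¬ MulAction.IsMultiplyPretransitive B Ω 2 := by
  intro ht
  letI i : MulAction A Ω := MulAction.compHom Ω e.toMonoidHom
  refine h i ⟨fun {x y} hxy => e.injective (eq_of_smul_eq_smul (α := Ω) hxy)⟩ ?_
  rw [MulAction.is_two_pretransitive_iff] at ht ⊢
  intro a b c d hab hcd
  obtain ⟨g, h1, h2⟩ := ht hab hcd
  exact ⟨e.symm g, show e (e.symm g) • a = c by rw [e.apply_symm_apply, h1],
    show e (e.symm g) • b = d by rw [e.apply_symm_apply, h2]⟩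

theorem transfer_commutator {Γ Δ Ω : Type*} [Group Γ] [Group Δ] {S : Subgroup Γ} {T : Subgroup Δ}
    [MulAction ↥(commutator ↥T) Ω] [FaithfulSMul ↥(commutator ↥T) Ω] (e : ↥S ≃* ↥T)
    (h : ∀ (i : MulAction ↥(commutator ↥S) Ω), @FaithfulSMul ↥(commutator ↥S) Ω i.toSMul →
      ¬ @MulAction.IsMultiplyPretransitive ↥(commutator ↥S) Ω _ i 2) :
    ¬ MulAction.IsMultiplyPretransitive ↥(commutator ↥T) Ω 2 :=
  transfer_action (((commutator ↥S).equivMapOfInjective e.toMonoidHom e.injective).trans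
    (MulEquiv.subgroupCongr (transport e))) h

theorem tits_no_two_transitive {Ω : Type*} [Fintype Ω] [MulAction TitsGroup Ω]
    [FaithfulSMul TitsGroup Ω] (hΩ : 3 ≤ Fintype.card Ω) :
    ¬ MulAction.IsMultiplyPretransitive TitsGroup Ω 2 :=
  transfer_commutator equivT fun i hi => @no_two_transitive Ω _ i hi hΩ

end Cfsg.Agent.H40.Tits
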